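import Cfsg.Agent.H384.RC.Core
import Cfsg.Agent.H952.F4.MaxA

/-!
# S3510-B, box BR1: odd order automorphisms of `A_5`, `A_6` and the induction hypothesis (helper610)
-/

set_option autoImplicit false

namespace Cfsg.Agent.H610.RC

open Equiv Equiv.Perm Cfsg.Agent.H106.RC Cfsg.Agent.H384.RC

/-- odd order permutations of at most 6 points have prime power order -/
theorem order_of_odd {n : ℕ} (hn : n ≤ 6) (σ : Perm (Fin n)) (ho : Odd (orderOf σ)) :
    ∃ p k : ℕ, p.Prime ∧ orderOf σ = p ^ k := by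
  have hsum : σ.cycleType.sum ≤ 6 := by
    rw [sum_cycleType]
    exact (Finset.card_le_univ _).trans (by simpa using hn)
  have hpart : ∀ m ∈ σ.cycleType, 3 ≤ m ∧ Odd m := by
    intro m hm
    have h2 := two_le_of_mem_cycleType hm
    have h3 : Odd m := Odd.of_dvd_nat ho (dvd_of_mem_cycleType hm)
    obtain ⟨k, hk⟩ := h3
    exact ⟨by omega, ⟨k, hk⟩⟩
  by_cases h5 : 5 ∈ σ.cycleType
  · refine ⟨5, 1, by norm_num, ?_⟩
    obtain ⟨m', hm'⟩ := Multiset.exists_cons_of_mem h5
    have h0 : m' = 0 := by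
      rw [Multiset.eq_zero_iff_forall_notMem]
      intro a ha
      have h1 := (hpart a (by rw [hm']; exact Multiset.mem_cons_of_mem ha)).1
      have h2 := Multiset.le_sum_of_mem ha
      rw [hm', Multiset.sum_cons] at hsum
      omega
    rw [← lcm_cycleType, hm', h0]
    simp
  · have h3 : orderOf σ ∣ 3 := by
      rw [← lcm_cycleType]
      refine Multiset.lcm_dvd.2 fun a ha => ?_
      obtain ⟨h1, k, hk⟩ := hpart a ha
      have h2 := (Multiset.le_sum_of_mem ha).trans hsum
      have h4 : a ≠ 5 := fun h => h5 (h ▸ ha)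
      have : a = 3 := by omega
      rw [this]
    rcases (Nat.dvd_prime Nat.prime_three).1 h3 with h | h
    · exact ⟨3, 0, Nat.prime_three, by rw [h, pow_zero]⟩
    · exact ⟨3, 1, Nat.prime_three, by rw [h, pow_one]⟩

theorem rco_alt {n : ℕ} (hn5 : 5 ≤ n) (hn : n ≤ 6) : RCo (alternatingGroup (Fin n)) := by
  intro α hα
  have hs : IsSimpleGroup (alternatingGroup (Fin n)) := alternatingGroup.isSimpleGroup (by simpa using hn5)
  have hc : Subgroup.center (alternatingGroup (Fin n)) = ⊥ :=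
    alternatingGroup.center_eq_bot (by simp; omega)
  obtain ⟨a, ha⟩ := Cfsg.Agent.H952.F4.MaxA.sq_inner hn5 α
  obtain ⟨k, hk⟩ := hα
  have h1 : α = MulAut.conj (a ^ (k + 1)) := by
    rw [map_pow, ← ha, ← pow_two, ← pow_mul]
    have h2 : α ^ orderOf α = 1 := pow_orderOf_eq_one α
    rw [hk] at h2
    rw [show 2 * (k + 1) = 2 * k + 1 + 1 by ring, pow_succ, h2, one_mul]
  have hinj : Function.Injective (MulAut.conj : alternatingGroup (Fin n) →* MulAut (alternatingGroup (Fin n))) := by
    rw [injective_iff_map_eq_one]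
    intro b hb
    have h2 : b ∈ Subgroup.center (alternatingGroup (Fin n)) := by
      rw [Subgroup.mem_center_iff]
      intro g
      have h3 : b * g * b⁻¹ = g := DFunLike.congr_fun hb g
      calc g * b = b * g * b⁻¹ * b := by rw [h3]
        _ = b * g := by group
    rw [hc] at h2
    exact Subgroup.mem_bot.1 h2
  have h2 : orderOf α = orderOf ((a ^ (k + 1) : alternatingGroup (Fin n)) : Perm (Fin n)) := by
    rw [Subgroup.orderOf_coe, ← orderOf_injective _ hinj, ← h1]
  obtain ⟨p, j, hp, hj⟩ := order_of_odd hn ((a ^ (k + 1) : alternatingGroup (Fin n)) : Perm (Fin n))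
    (by rw [← h2]; exact ⟨k, hk⟩)
  exact rce_of_prime_pow hs α hp (h2.trans hj)

theorem rco_A5 : RCo (alternatingGroup (Fin 5)) := rco_alt le_rfl (by norm_num)

theorem rco_A6 : RCo (alternatingGroup (Fin 6)) := rco_alt (by norm_num) le_rfl

theorem rco_ih {N : ℕ} (hIH : IH N) {Q : Type} [Group Q] [Finite Q] (hs : IsSimpleGroup Q)
    (hn : ¬ IsMulCommutative Q) (hcl : Cl Q)
    (h8 : ¬ Nonempty (Q ≃* alternatingGroup (Fin 8))) (hlt : Nat.card Q < N) : RCo Q := by
  by_cases h5 : Nonempty (Q ≃* alternatingGroup (Fin 5))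
  · obtain ⟨e⟩ := h5
    exact rco_A5.congr e.symm
  by_cases h6 : Nonempty (Q ≃* alternatingGroup (Fin 6))
  · obtain ⟨e⟩ := h6
    exact rco_A6.congr e.symm
  refine RCo.of_RC (hIH Q hs hn hcl ?_ hlt)
  rintro (h | h | h)
  · exact h5 h
  · exact h6 h
  · exact h8 h

end Cfsg.Agent.H610.RC
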